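import Groth.Prelude.Def_W4c3convisocdirimgFrobIter
import Mathlib.AlgebraicGeometry.Morphisms.ClosedImmersion
import Mathlib.AlgebraicGeometry.Morphisms.Affine
import Mathlib.AlgebraicGeometry.Noetherian
import Mathlib.FieldTheory.PurelyInseparable.Exponent
import Mathlib.RingTheory.Noetherian.Nilpotent

/-!
# Maps from a scheme to the reduction of a purely inseparable base change
-/

set_option autoImplicit false

universe u

open CategoryTheory CategoryTheory.Limits AlgebraicGeometry FrobSch TopologicalSpace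

namespace Groth.Agent.CohDer1.QP

variable {X Y : Scheme.{u}} (p : ℕ) [Fact p.Prime]

theorem isAffineHom_frobIter [IsCharP X p] : ∀ n, IsAffineHom (frobIter X p n)
  | 0 => inferInstanceAs (IsAffineHom (𝟙 X))
  | n + 1 =>
    haveI := isAffineHom_frobIter n
    haveI : IsAffineHom (frob X p) := ⟨fun U hU => hU⟩
    inferInstanceAs (IsAffineHom (frob X p ≫ frobIter X p n))

theorem frobIter_comp [IsCharP X p] [IsCharP Y p] (f : X ⟶ Y) : ∀ n, frobIter X p n ≫ f = f ≫ frobIter Y p n
  | 0 => (Category.id_comp f).trans (Category.comp_id f).symm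
  | n + 1 => by rw [frobIter_succ, frobIter_succ, Category.assoc, frobIter_comp f n, frob_comp_assoc p f]

theorem frobIter_app_eq_zero [IsCharP X p] : ∀ n (U : X.Opens) (x : Γ(X, U)), x ^ p ^ n = 0 →
    (frobIter X p n).app U x = 0
  | 0, U, x, h => by
    rw [pow_zero, pow_one] at h
    rw [h, map_zero]
  | n + 1, U, x, h => by
    have h1 : (frobIter X p n).app U (x ^ p) = 0 :=
      frobIter_app_eq_zero n U (x ^ p) (by rw [← pow_mul, ← pow_succ']; exact h)
    show (frob X p ≫ frobIter X p n).app U x = 0
    rw [Scheme.Hom.comp_app]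
    show (frob X p).app _ ((frobIter X p n).app U x) = 0
    rw [frob_app, ← map_pow, h1]
    rfl

theorem frobIter_appTop [IsCharP X p] : ∀ n (x : Γ(X, ⊤)), (frobIter X p n).appTop x = x ^ p ^ n
  | 0, x => by rw [pow_zero, pow_one]; rfl
  | n + 1, x => by
    show (frob X p ≫ frobIter X p n).appTop x = _
    rw [Scheme.Hom.comp_appTop]
    show (frob X p).appTop ((frobIter X p n).appTop x) = _
    rw [frob_appTop, frobIter_appTop n x, ← pow_mul, pow_succ]

/-- Some iterate of the Frobenius factors through the reduction. -/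
theorem exists_affineHom_to_reduction [IsNoetherian X] [IsCharP X p] :
    ∃ Φ : X ⟶ X.nilradical.subscheme, IsAffineHom Φ := by
  classical
  obtain ⟨t, ht⟩ := isCompact_univ.elim_finite_subcover (fun U : X.affineOpens => (U.1 : Set X))
    (fun U => U.1.2) fun x _ => by
      obtain ⟨_, ⟨U, hU, rfl⟩, hxU, -⟩ :=
        X.isBasis_affineOpens.exists_subset_of_mem_open (Set.mem_univ x) isOpen_univ
      exact Set.mem_iUnion.2 ⟨⟨U, hU⟩, hxU⟩
  have hnil : ∀ U : X.affineOpens, ∃ j, X.nilradical.ideal U ^ j = ⊥ := fun U => by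
    haveI : IsNoetherianRing Γ(X, U.1) := IsLocallyNoetherian.component_noetherian U
    exact (IsNoetherianRing.isNilpotent_nilradical Γ(X, U.1)).imp fun j hj => by simpa [Scheme.nilradical, nilradical] using hj
  choose j hj using hnil
  let n := t.sup j
  haveI := isAffineHom_frobIter (X := X) p n
  have hle : X.nilradical.subschemeι.ker ≤ (frobIter X p n).ker := by
    rw [Scheme.IdealSheafData.ker_subschemeι]
    refine Scheme.IdealSheafData.le_of_iSup_eq_top (fun U : t => (U : X.affineOpens)) ?_ fun U x hx => ?_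
    · refine top_le_iff.1 fun y _ => ?_
      obtain ⟨U, hU, hy⟩ := Set.mem_iUnion₂.1 (ht (Set.mem_univ y))
      exact Opens.mem_iSup.2 ⟨⟨U, hU⟩, hy⟩
    · rw [Scheme.Hom.ker_apply, RingHom.mem_ker]
      refine frobIter_app_eq_zero p n _ x ?_
      have h1 : x ^ j U.1 = 0 := Ideal.mem_bot.1 (hj U.1 ▸ Ideal.pow_mem_pow hx (j U.1))
      exact pow_eq_zero_of_le ((Finset.le_sup U.2).trans (Nat.lt_pow_self (Fact.out : p.Prime).one_lt).le) h1
  refine ⟨IsClosedImmersion.lift _ _ hle, ?_⟩
  haveI : IsAffineHom (IsClosedImmersion.lift _ _ hle ≫ X.nilradical.subschemeι) := by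
    rw [IsClosedImmersion.lift_fac]; infer_instance
  exact IsAffineHom.of_comp _ X.nilradical.subschemeι

/-- An affine morphism into a finite purely inseparable base change. -/
theorem exists_affineHom_to_baseChange {k K : Type u} [Field k] [CharP k p] [Field K] [Algebra k K]
    [FiniteDimensional k K] [IsPurelyInseparable k K] (f : X ⟶ Spec (CommRingCat.of k)) :
    ∃ ψ : X ⟶ pullback f (Spec.map (CommRingCat.ofHom (algebraMap k K))), IsAffineHom ψ := by
  haveI : IsCharP X p := IsCharP.of_hom f p
  haveI : ExpChar k p := ExpChar.prime Fact.out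
  let n := IsPurelyInseparable.exponent k K
  let ι : K →+* k := IsPurelyInseparable.iterateFrobenius k K p (le_refl n)
  have hpow : frobIter (Spec (CommRingCat.of k)) p n =
      Spec.map (CommRingCat.ofHom ι) ≫ Spec.map (CommRingCat.ofHom (algebraMap k K)) := by
    rw [← Spec.map_comp]
    apply ext_of_isAffine
    ext s
    rw [frobIter_appTop]
    have h : CommRingCat.ofHom (algebraMap k K) ≫ CommRingCat.ofHom ι =
        CommRingCat.ofHom (ι.comp (algebraMap k K)) := rfl
    rw [h]
    let e := Scheme.ΓSpecIso (CommRingCat.of k)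
    have hnat := congrArg (fun φ => φ s) (Scheme.ΓSpecIso_naturality (CommRingCat.ofHom (ι.comp (algebraMap k K))))
    apply e.commRingCatIsoToRingEquiv.injective
    show e.hom (s ^ p ^ n) = e.hom ((Spec.map (CommRingCat.ofHom (ι.comp (algebraMap k K)))).appTop s)
    refine Eq.trans ?_ hnat.symm
    show e.hom (s ^ p ^ n) = ι (algebraMap k K (e.hom s))
    rw [map_pow, IsPurelyInseparable.iterateFrobenius_algebraMap]
  haveI := isAffineHom_frobIter (X := X) p n
  let ψ := pullback.lift (frobIter X p n) (f ≫ Spec.map (CommRingCat.ofHom ι))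
    (by rw [frobIter_comp p f n, hpow, Category.assoc] :
      frobIter X p n ≫ f = (f ≫ Spec.map (CommRingCat.ofHom ι)) ≫ Spec.map (CommRingCat.ofHom (algebraMap k K)))
  refine ⟨ψ, ?_⟩
  haveI : IsAffineHom (ψ ≫ pullback.fst f (Spec.map (CommRingCat.ofHom (algebraMap k K)))) := by
    rw [pullback.lift_fst]; infer_instance
  exact IsAffineHom.of_comp ψ (pullback.fst f (Spec.map (CommRingCat.ofHom (algebraMap k K))))

end Groth.Agent.CohDer1.QP
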