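import Groth.Agent.CohDer1.QP.Smooth
import Groth.Agent.CohDer1.QP.Frob
import Groth.Agent.S1629
import Groth.Agent.FBaseLib.Geom
import Groth.Agent.AlgGrpLib.SubGrpMono
import Groth.Agent.HopfLib.SchemeCartier
import Mathlib.AlgebraicGeometry.Group.Smooth

/-!
# Group schemes of finite type over a field are quasi-projective
-/

set_option autoImplicit false
set_option backward.isDefEq.respectTransparency.types false

universe u

open CategoryTheory CategoryTheory.Limits MonoidalCategory CartesianMonoidalCategory AlgebraicGeometry MonObj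
  TopologicalSpace

namespace Groth.Agent.CohDer1.QP

variable {K : Type u} [Field K]

/-- The nilradical is contained in the kernel of a morphism from a reduced scheme. -/
theorem nilradical_le_ker {Z Y : Scheme.{u}} (t : Z ⟶ Y) [IsReduced Z] : Y.nilradical ≤ t.ker := by
  refine Scheme.IdealSheafData.le_ofIdeals_iff.2 fun U x hx => ?_
  rw [RingHom.mem_ker]
  obtain ⟨n, hn⟩ := Ideal.mem_radical_iff.1 (show x ∈ Ideal.radical ((⊥ : Y.IdealSheafData).ideal U) from hx)
  simp only [Scheme.IdealSheafData.ideal_bot, Pi.bot_apply, Submodule.mem_bot] at hn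
  exact IsReduced.eq_zero _ ⟨n, by rw [← map_pow, hn, map_zero]⟩

/-- The reduced subgroup, when geometrically reduced, is smooth and carries an ample module. -/
theorem exists_ample_reduction (H : Over (Spec (CommRingCat.of K))) [GrpObj H] [LocallyOfFiniteType H.hom]
    [QuasiCompact H.hom] (hR : GeometricallyReduced (H.left.nilradical.subschemeι ≫ H.hom)) :
    ∃ L : H.left.nilradical.subscheme.Modules, CohB1.IsAmple L := by
  let R : Over (Spec (CommRingCat.of K)) := Over.mk (H.left.nilradical.subschemeι ≫ H.hom)
  let i : R ⟶ H := Over.homMk H.left.nilradical.subschemeι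
  haveI : GeometricallyReduced R.hom := hR
  haveI : Mono i := Over.mono_of_mono_left i
  have hfac : ∀ (T : Over (Spec (CommRingCat.of K))) [IsReduced T.left] (t : T ⟶ H), ∃ t' : T ⟶ R, t' ≫ i = t := by
    intro T _ t
    have hle : H.left.nilradical.subschemeι.ker ≤ t.left.ker := by
      rw [Scheme.IdealSheafData.ker_subschemeι]; exact nilradical_le_ker t.left
    refine ⟨Over.homMk (IsClosedImmersion.lift _ _ hle) ?_, ?_⟩
    · show IsClosedImmersion.lift _ _ hle ≫ H.left.nilradical.subschemeι ≫ H.hom = _
      rw [IsClosedImmersion.lift_fac_assoc]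
      exact Over.w t
    · ext1
      exact IsClosedImmersion.lift_fac _ _ hle
  haveI : IsReduced R.left :=
    GeometricallyReduced.geometrically_isReduced (f := R.hom) (𝟙 _) (𝟙 _) R.hom
      (IsPullback.of_horiz_isIso ⟨by rw [Category.id_comp, Category.comp_id]⟩)
  haveI : IsReduced (R ⊗ R).left := FBaseLib.isReduced_pullback R.hom R.hom
  haveI : IsReduced (𝟙_ (Over (Spec (CommRingCat.of K)))).left :=
    inferInstanceAs (IsReduced (Spec (CommRingCat.of K)))
  obtain ⟨g, hg⟩ := AlgGrpLib.exists_grpObj_of_mono i (hfac _ 1) (hfac _ _) (hfac _ _)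
  haveI : LocallyOfFiniteType R.hom :=
    inferInstanceAs (LocallyOfFiniteType (H.left.nilradical.subschemeι ≫ H.hom))
  haveI : QuasiCompact R.hom := inferInstanceAs (QuasiCompact (H.left.nilradical.subschemeι ≫ H.hom))
  letI : GrpObj (Over.mk R.hom) := g
  haveI : Smooth R.hom := AlgebraicGeometry.smooth_of_grpObj R.hom
  letI : GrpObj R := g
  exact exists_ample_of_smooth R

/-- A group scheme of finite type over a field carries an ample module. -/
theorem exists_ample {k : Type u} [Field k] (G : Over (Spec (CommRingCat.of k))) [GrpObj G]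
    [LocallyOfFiniteType G.hom] [QuasiCompact G.hom] : ∃ L : G.left.Modules, CohB1.IsAmple L := by
  by_cases h0 : CharZero k
  · haveI : Smooth G.hom := HopfLib.smooth_of_grpObj G
    exact exists_ample_of_smooth G
  obtain ⟨p, hp⟩ := CharP.exists k
  haveI : Fact p.Prime := by
    rcases CharP.char_is_prime_or_zero k p with h | h
    · exact ⟨h⟩
    · subst h; exact absurd (CharP.charP_to_charZero k) h0
  letI : G.left.Over (Spec (CommRingCat.of k)) := ⟨G.hom⟩
  haveI : LocallyOfFiniteType (G.left ↘ Spec (CommRingCat.of k)) := ‹LocallyOfFiniteType G.hom›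
  haveI : IsLocallyNoetherian G.left := LocallyOfFiniteType.isLocallyNoetherian G.hom
  haveI : CompactSpace G.left := QuasiCompact.compactSpace_of_compactSpace G.hom
  haveI : IsNoetherian G.left := {}
  obtain ⟨K, _, _, hfd, hpi, hR⟩ :=
    Groth.Agent.S1629.result k G.left NoetherianSpace.finite_irreducibleComponents
  let φ : Spec (CommRingCat.of K) ⟶ Spec (CommRingCat.of k) := Spec.map (CommRingCat.ofHom (algebraMap k K))
  let H : Over (Spec (CommRingCat.of K)) := (Over.pullback φ).obj G
  letI : GrpObj H := Functor.grpObjObj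
  haveI : LocallyOfFiniteType H.hom := inferInstanceAs (LocallyOfFiniteType (pullback.snd G.hom φ))
  haveI : QuasiCompact H.hom := inferInstanceAs (QuasiCompact (pullback.snd G.hom φ))
  obtain ⟨L, hL⟩ := exists_ample_reduction H hR
  haveI : CharP K p := charP_of_injective_algebraMap (algebraMap k K).injective p
  haveI : FrobSch.IsCharP H.left p := FrobSch.IsCharP.of_hom H.hom p
  haveI : IsLocallyNoetherian H.left := LocallyOfFiniteType.isLocallyNoetherian H.hom
  haveI : CompactSpace H.left := QuasiCompact.compactSpace_of_compactSpace H.hom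
  haveI : IsNoetherian H.left := {}
  obtain ⟨Φ, hΦ⟩ := exists_affineHom_to_reduction (X := H.left) p
  obtain ⟨ψ, hψ⟩ := exists_affineHom_to_baseChange (K := K) p G.hom
  let σ : G.left ⟶ H.left.nilradical.subscheme := ψ ≫ Φ
  haveI : IsAffineHom σ := inferInstanceAs (IsAffineHom (ψ ≫ Φ))
  refine ⟨_, Groth.Agent.AmpleLib.isAmple_pullback_of_isQuasiAffine σ ?_ hL⟩
  exact ⟨inferInstance, fun V hV => by
    haveI : IsAffine (σ ⁻¹ᵁ V : Scheme.{u}) := hV.preimage σ
    infer_instance⟩

end Groth.Agent.CohDer1.QP
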