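import Groth.Agent.AbCubeLib.ExistsAmple
import Groth.Agent.CubeLib.CubeNoncomplete
import Groth.Agent.AmpleLib.Coprod
import Groth.Agent.SGA3cLib.Irreducible
import Groth.Agent.SGA3xLib.SepFibre

/-!
# Sections with dense affine nonvanishing locus on smooth groups over algebraically closed fields
-/

set_option autoImplicit false
set_option backward.isDefEq.respectTransparency.types false

universe u

open CategoryTheory CategoryTheory.Limits MonoidalCategory CartesianMonoidalCategory AlgebraicGeometry MonObj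
  TopologicalSpace
open Groth.Agent.PicLib Groth.Agent.CubeLib Groth.Agent.AmpleLib Groth.Agent.AbCubeLib Groth.Agent.Coherent

namespace Groth.Agent.CohDer1.QP

variable {k : Type u} [Field k] [IsAlgClosed k] {G : Over (Spec (CommRingCat.of k))} [GrpObj G]

/-- The underlying point of a rational point. -/
noncomputable abbrev pt {X : Over (Spec (CommRingCat.of k))} (a : 𝟙_ (Over (Spec (CommRingCat.of k))) ⟶ X) : X.left :=
  a.left (IsLocalRing.closedPoint k)

theorem pt_comp {X Y : Over (Spec (CommRingCat.of k))} (a : 𝟙_ (Over (Spec (CommRingCat.of k))) ⟶ X) (f : X ⟶ Y) :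
    pt (a ≫ f) = f.left (pt a) := rfl

theorem isIso_mul_left (P : 𝟙_ (Over (Spec (CommRingCat.of k))) ⟶ G) : IsIso ((toUnit G ≫ P) * 𝟙 G) := by
  refine ⟨(toUnit G ≫ P⁻¹) * 𝟙 G, ?_, ?_⟩
  · rw [comp_mul, ← Category.assoc, comp_toUnit, Category.comp_id, ← _root_.mul_assoc, ← comp_mul,
      inv_mul_cancel, comp_one, _root_.one_mul]
  · rw [comp_mul, ← Category.assoc, comp_toUnit, Category.comp_id, ← _root_.mul_assoc, ← comp_mul,
      mul_inv_cancel, comp_one, _root_.one_mul]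

theorem isIso_inv_mul_left (P : 𝟙_ (Over (Spec (CommRingCat.of k))) ⟶ G) : IsIso ((toUnit G ≫ P) * (𝟙 G)⁻¹) := by
  refine ⟨(𝟙 G)⁻¹ * (toUnit G ≫ P), ?_, ?_⟩
  · rw [comp_mul, ← Category.assoc, comp_toUnit, GrpObj.comp_inv, Category.comp_id, _root_.mul_inv_rev,
      _root_.inv_inv, _root_.mul_assoc, _root_.inv_mul_cancel, _root_.mul_one]
  · rw [comp_mul, ← Category.assoc, comp_toUnit, GrpObj.comp_inv, Category.comp_id, _root_.mul_inv_rev,
      _root_.inv_inv, ← _root_.mul_assoc, _root_.mul_inv_cancel, _root_.one_mul]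

theorem isIso_mul_right (P : 𝟙_ (Over (Spec (CommRingCat.of k))) ⟶ G) : IsIso (𝟙 G * (toUnit G ≫ P)) := by
  refine ⟨𝟙 G * (toUnit G ≫ P⁻¹), ?_, ?_⟩
  · rw [comp_mul, ← Category.assoc, comp_toUnit, Category.comp_id, _root_.mul_assoc, ← comp_mul,
      mul_inv_cancel, comp_one, _root_.mul_one]
  · rw [comp_mul, ← Category.assoc, comp_toUnit, Category.comp_id, _root_.mul_assoc, ← comp_mul,
      inv_mul_cancel, comp_one, _root_.mul_one]

theorem isIso_inv_self : IsIso ((𝟙 G)⁻¹) := by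
  refine ⟨(𝟙 G)⁻¹, ?_, ?_⟩ <;> rw [GrpObj.comp_inv, Category.comp_id, _root_.inv_inv]

/-- The square relation on components. -/
theorem square_component {C E : Over (Spec (CommRingCat.of k))} [Smooth C.hom] [GeometricallyIntegral C.hom]
    [Smooth E.hom] [GeometricallyIntegral E.hom] [QuasiCompact E.hom] (jC : C ⟶ G) (jE : E ⟶ G)
    (p : 𝟙_ (Over (Spec (CommRingCat.of k))) ⟶ C) (e a a' : 𝟙_ (Over (Spec (CommRingCat.of k))) ⟶ E)
    (he : e ≫ jE = 1) (ha : a' ≫ jE = (a ≫ jE)⁻¹) (l : PicM G.left) :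
    pb (jC * (toUnit C ≫ a ≫ jE)) l * pb (jC * (toUnit C ≫ (a ≫ jE)⁻¹)) l = pb jC l * pb jC l := by
  let φ : C ⊗ (E ⊗ E) ⟶ G := (fst C (E ⊗ E) ≫ jC) * (snd C (E ⊗ E) ≫ fst E E ≫ jE) * (snd C (E ⊗ E) ≫ snd E E ≫ jE)
  have hφ : ∀ {Q : Over (Spec (CommRingCat.of k))} (x : Q ⟶ C) (y z : Q ⟶ E),
      lift x (lift y z) ≫ φ = (x ≫ jC) * (y ≫ jE) * (z ≫ jE) := fun x y z => by
    simp only [φ, comp_mul, lift_fst_assoc, lift_snd_assoc]
  have hconst : pb (lift (toUnit C ≫ p) (lift (toUnit C ≫ a) (toUnit C ≫ a'))) (pb φ l) = 1 := by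
    rw [← comp_lift, ← comp_lift]; exact pb_const _ _
  have hconst' : pb (lift (toUnit C ≫ p) (lift (toUnit C ≫ a) (toUnit C ≫ e))) (pb φ l) = 1 := by
    rw [← comp_lift, ← comp_lift]; exact pb_const _ _
  have hconst'' : pb (lift (toUnit C ≫ p) (lift (toUnit C ≫ e) (toUnit C ≫ a'))) (pb φ l) = 1 := by
    rw [← comp_lift, ← comp_lift]; exact pb_const _ _
  have h := cube_decomposition p e e (pb φ l) (𝟙 C) (toUnit C ≫ a) (toUnit C ≫ a')
  rw [hconst, hconst', hconst''] at h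
  simp only [pb_pb, hφ, Category.id_comp, Category.assoc, he, ha, comp_one, _root_.mul_one] at h
  rw [_root_.mul_assoc jC, ← comp_mul, mul_inv_cancel, comp_one, _root_.mul_one] at h
  exact h.symm

theorem isReduced_of_smooth {X : Scheme.{u}} (f : X ⟶ Spec (CommRingCat.of k)) [Smooth f] : IsReduced X := by
  haveI : ∀ x : X, _root_.IsReduced (X.presheaf.stalk x) := fun x => by
    haveI := VarietyLib.isRegularLocalRing_stalk_of_smooth k X f x
    haveI := CAlgH3.isDomain_of_isRegularLocalRing (X.presheaf.stalk x)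
    infer_instance
  exact isReduced_of_isReduced_stalk X

/-- An invertible module on a smooth group with a section having dense affine nonvanishing locus is ample. -/
theorem isAmple_of_dense_affine_glocus [Smooth G.hom] [QuasiCompact G.hom] {L : G.left.Modules}
    (hL : PicF.IsInvertible L) (s : Γ(L, ⊤)) (haff : IsAffineOpen (glocus L s))
    (hdense : Dense (glocus L s : Set G.left)) : CohB1.IsAmple L := by
  classical
  have hsep : IsSeparated G.hom := SGA3xLib.isSeparated_of_grpObj G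
  haveI : G.left.IsSeparated := ⟨by rw [← terminal.comp_from G.hom]; infer_instance⟩
  haveI : IsLocallyNoetherian G.left := LocallyOfFiniteType.isLocallyNoetherian G.hom
  haveI : CompactSpace G.left := QuasiCompact.compactSpace_of_compactSpace G.hom
  haveI : IsNoetherian G.left := {}
  haveI : JacobsonSpace G.left := LocallyOfFiniteType.jacobsonSpace G.hom
  let U := glocus L s
  have huniq : ∀ x : G.left, ∃! C, C ∈ irreducibleComponents ↥G.left ∧ x ∈ C := fun x =>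
    SGA3cLib.existsUnique_irreducibleComponent (SGA3cLib.regAction G) (SGA3cLib.surjective_regAction G) x
  have hfin : (irreducibleComponents ↥G.left).Finite := NoetherianSpace.finite_irreducibleComponents
  have hcompl : ∀ C ∈ irreducibleComponents ↥G.left, IsOpen C := fun C hC => by
    have hC' : C = (⋃ D ∈ irreducibleComponents ↥G.left \ {C}, D)ᶜ := by
      ext x
      simp only [Set.mem_compl_iff, Set.mem_iUnion, Set.mem_diff, Set.mem_singleton_iff, not_exists]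
      refine ⟨fun hx D hD hxD => hD.2 ((huniq x).unique ⟨hD.1, hxD⟩ ⟨hC, hx⟩), fun h => ?_⟩
      obtain ⟨D, ⟨hD, hxD⟩, -⟩ := huniq x
      by_contra hx
      exact h D ⟨hD, fun hDC => hx (hDC ▸ hxD)⟩ hxD
    rw [hC']
    exact ((hfin.diff).isClosed_biUnion fun D hD => isClosed_of_mem_irreducibleComponents D hD.1).isOpen_compl
  have hr : ∀ C : irreducibleComponents ↥G.left, ∃ r : Γ(G.left, ⊤), (G.left.basicOpen r : Set G.left) = C.1 := by
    intro C
    let A : G.left.Opens := ⟨C.1, hcompl _ C.2⟩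
    let B : G.left.Opens := ⟨(C.1)ᶜ, (isClosed_of_mem_irreducibleComponents _ C.2).isOpen_compl⟩
    obtain ⟨r, hr⟩ := exists_basicOpen_eq_of_isCompl (A := A) (B := B)
      (Opens.ext (Set.inter_compl_self C.1)) (Opens.ext (Set.union_compl_self C.1))
    exact ⟨r, congrArg (fun V : G.left.Opens => (V : Set G.left)) hr⟩
  choose r hr using hr
  refine isAmple_of_basicOpen_cover hL r (fun x => ?_) fun C => ?_
  · obtain ⟨D, ⟨hD, hxD⟩, -⟩ := huniq x
    exact ⟨⟨D, hD⟩, (hr ⟨D, hD⟩).ge hxD⟩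
  let eG : 𝟙_ (Over (Spec (CommRingCat.of k))) ⟶ G := 1
  obtain ⟨E₀, ⟨hE₀, heE⟩, hEu⟩ := huniq (pt eG)
  let Co := G.left.basicOpen (r C)
  let Eo := G.left.basicOpen (r ⟨E₀, hE₀⟩)
  have geom : ∀ D : irreducibleComponents ↥G.left,
      GeometricallyIntegral ((G.left.basicOpen (r D)).ι ≫ G.hom) ∧ QuasiCompact ((G.left.basicOpen (r D)).ι ≫ G.hom) := by
    intro D
    haveI := isReduced_of_smooth (k := k) G.hom
    haveI : IrreducibleSpace ↥(G.left.basicOpen (r D)).toScheme := by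
      have h : IsIrreducible ((G.left.basicOpen (r D)) : Set G.left) := by rw [hr D]; exact D.2.1
      exact Subtype.irreducibleSpace h
    haveI : IsIntegral (G.left.basicOpen (r D)).toScheme := isIntegral_of_irreducibleSpace_of_isReduced _
    exact ⟨AbVarLib.geometricallyIntegral_of_isAlgClosed _, inferInstance⟩
  obtain ⟨_, _⟩ := geom C
  obtain ⟨_, _⟩ := geom ⟨E₀, hE₀⟩
  let C' : Over (Spec (CommRingCat.of k)) := Over.mk (Co.ι ≫ G.hom)
  let E' : Over (Spec (CommRingCat.of k)) := Over.mk (Eo.ι ≫ G.hom)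
  haveI : Smooth C'.hom := inferInstanceAs (Smooth (Co.ι ≫ G.hom))
  haveI : Smooth E'.hom := inferInstanceAs (Smooth (Eo.ι ≫ G.hom))
  haveI : GeometricallyIntegral C'.hom := ‹GeometricallyIntegral (Co.ι ≫ G.hom)›
  haveI : GeometricallyIntegral E'.hom := ‹GeometricallyIntegral (Eo.ι ≫ G.hom)›
  haveI : QuasiCompact E'.hom := ‹QuasiCompact (Eo.ι ≫ G.hom)›
  let jC : C' ⟶ G := Over.homMk Co.ι
  let jE : E' ⟶ G := Over.homMk Eo.ι
  have liftE : ∀ b : 𝟙_ (Over (Spec (CommRingCat.of k))) ⟶ G, pt b ∈ E₀ → ∃ b' : 𝟙_ _ ⟶ E', b' ≫ jE = b := by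
    intro b hb
    have hrange : Set.range b.left ⊆ Set.range Eo.ι := by
      rintro _ ⟨x, rfl⟩
      rw [Subsingleton.elim (α := PrimeSpectrum k) x (IsLocalRing.closedPoint k), Scheme.Opens.range_ι]
      exact (hr ⟨E₀, hE₀⟩).ge hb
    refine ⟨Over.homMk (IsOpenImmersion.lift Eo.ι b.left hrange) ?_, ?_⟩
    · show IsOpenImmersion.lift Eo.ι b.left hrange ≫ Eo.ι ≫ G.hom = _
      rw [IsOpenImmersion.lift_fac_assoc]
      exact Over.w b
    · ext1
      exact IsOpenImmersion.lift_fac _ _ _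
  haveI : CompactSpace Co.toScheme := isCompact_iff_compactSpace.1 ((NoetherianSpace.isCompact (Co : Set G.left)))
  refine ⟨PicLoc.isInvertible_pullback _ hL, inferInstance, fun z => ?_⟩
  haveI : LocallyOfFiniteType C'.hom := inferInstanceAs (LocallyOfFiniteType (Co.ι ≫ G.hom))
  haveI : CompactSpace C'.left := inferInstanceAs (CompactSpace Co.toScheme)
  obtain ⟨y, hy, hyc⟩ := (isClosed_closure (s := ({z} : Set C'.left))).exists_closed_singleton ⟨z, subset_closure rfl⟩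
  let p : 𝟙_ (Over (Spec (CommRingCat.of k))) ⟶ C' :=
    Over.homMk (pointOfClosedPoint C'.hom y hyc) (pointOfClosedPoint_comp C'.hom y hyc)
  have hp : pt p = y := pointOfClosedPoint_apply _ _ _ _
  let P := p ≫ jC
  have := isIso_mul_left P
  have := isIso_inv_mul_left P
  have : IsIso ((toUnit G ≫ P) * 𝟙 G).left := inferInstanceAs (IsIso ((Over.forget _).map ((toUnit G ≫ P) * 𝟙 G)))
  have : IsIso ((toUnit G ≫ P) * (𝟙 G)⁻¹).left :=
    inferInstanceAs (IsIso ((Over.forget _).map ((toUnit G ≫ P) * (𝟙 G)⁻¹)))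
  let O₁ : G.left.Opens := ((toUnit G ≫ P) * 𝟙 G).left ⁻¹ᵁ U
  let O₂ : G.left.Opens := ((toUnit G ≫ P) * (𝟙 G)⁻¹).left ⁻¹ᵁ U
  have hO₁ : Dense (O₁ : Set G.left) := hdense.preimage (Scheme.Hom.isOpenEmbedding _).isOpenMap
  have hO₂ : Dense (O₂ : Set G.left) := hdense.preimage (Scheme.Hom.isOpenEmbedding _).isOpenMap
  have hne : ((O₁ : Set G.left) ∩ O₂ ∩ E₀).Nonempty := by
    rw [Set.inter_comm]
    exact (hO₁.inter_of_isOpen_left hO₂ O₁.isOpen).inter_open_nonempty _ (hcompl _ hE₀) ⟨_, heE⟩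
  obtain ⟨w, ⟨⟨hw₁, hw₂⟩, hwE⟩, hwc⟩ := nonempty_inter_closedPoints hne
    ((O₁.isOpen.inter O₂.isOpen).inter (hcompl _ hE₀)).isLocallyClosed
  let A : 𝟙_ (Over (Spec (CommRingCat.of k))) ⟶ G :=
    Over.homMk (pointOfClosedPoint G.hom w hwc) (pointOfClosedPoint_comp G.hom w hwc)
  have hA : pt A = w := pointOfClosedPoint_apply _ _ _ _
  obtain ⟨a, ha⟩ := liftE A (hA.symm ▸ hwE)
  obtain ⟨e, he⟩ := liftE eG heE
  have := isIso_inv_self (G := G)
  haveI : IsIso ((𝟙 G)⁻¹).left := inferInstanceAs (IsIso ((Over.forget _).map ((𝟙 G)⁻¹)))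
  have hAinv : pt A⁻¹ ∈ E₀ := by
    let ν := ((𝟙 G)⁻¹).left
    have h1 : eG ≫ (𝟙 G)⁻¹ = eG := by rw [GrpObj.comp_inv, Category.comp_id]; exact inv_one
    have himg : IsIrreducible (ν '' E₀) := hE₀.1.image _ ν.continuous.continuousOn
    obtain ⟨D, hD, hsub⟩ : ∃ D ∈ irreducibleComponents ↥G.left, ν '' E₀ ⊆ D := by
      obtain ⟨m, h1, h2⟩ := exists_preirreducible _ himg.isPreirreducible
      refine ⟨m, ⟨⟨himg.nonempty.mono h2.1, h1⟩, fun Z hZ hle => ?_⟩, h2.1⟩
      exact (h2.2 Z hZ.isPreirreducible hle).le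
    have hDE : D = E₀ := hEu D ⟨hD, hsub ⟨pt eG, heE, by rw [← pt_comp, h1]⟩⟩
    rw [← hDE]
    refine hsub ⟨pt A, hA.symm ▸ hwE, ?_⟩
    rw [← pt_comp, GrpObj.comp_inv, Category.comp_id]
  obtain ⟨a', ha'⟩ := liftE A⁻¹ hAinv
  have hsq := square_component jC jE p e a a' he (by rw [ha', ha]) (PicM.of hL)
  rw [ha] at hsq
  let t₁ : C'.left ⟶ G.left := (jC * (toUnit C' ≫ A)).left
  let t₂ : C'.left ⟶ G.left := (jC * (toUnit C' ≫ A⁻¹)).left
  rw [pb, pb, pb, PicM.pull_of, PicM.pull_of, PicM.pull_of, ← pow_two, ← PicM.of_tensorPow, PicM.of_mul,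
    PicM.of_eq_iff] at hsq
  obtain ⟨ee⟩ := hsq
  let σ := ee.hom.app ⊤ (tmul (pullSec t₁ s) (pullSec t₂ s))
  have hσ : glocus _ σ = t₁ ⁻¹ᵁ U ⊓ t₂ ⁻¹ᵁ U :=
    (glocus_map_iso ee _).trans ((glocus_tmul (PicLoc.isInvertible_pullback _ hL) (PicLoc.isInvertible_pullback _ hL)
      _ _).trans (by rw [glocus_pullSec t₁ hL, glocus_pullSec t₂ hL]))
  have h1 : t₁ y ∈ U := by
    rw [← hp, ← pt_comp, comp_mul, ← Category.assoc, toUnit_unique (p ≫ toUnit C') (𝟙 _), Category.id_comp]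
    have := hw₁
    rw [← hA] at this
    change pt (A ≫ ((toUnit G ≫ P) * 𝟙 G)) ∈ U at this
    rwa [comp_mul, Category.comp_id, ← Category.assoc, toUnit_unique (A ≫ toUnit G) (𝟙 _), Category.id_comp] at this
  have h2 : t₂ y ∈ U := by
    rw [← hp, ← pt_comp, comp_mul, ← Category.assoc, toUnit_unique (p ≫ toUnit C') (𝟙 _), Category.id_comp]
    have := hw₂
    rw [← hA] at this
    change pt (A ≫ ((toUnit G ≫ P) * (𝟙 G)⁻¹)) ∈ U at this
    rwa [comp_mul, GrpObj.comp_inv, Category.comp_id, ← Category.assoc, toUnit_unique (A ≫ toUnit G) (𝟙 _),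
      Category.id_comp] at this
  refine ⟨1, unitDesc _ σ, ?_, ?_⟩
  · show z ∈ glocus _ σ
    obtain ⟨z', hz', rfl⟩ := mem_closure_iff.1 hy _ (glocus _ σ).2 (hσ.ge ⟨h1, h2⟩)
    exact hz'
  · show IsAffineOpen (glocus _ σ)
    rw [hσ]
    have aff : ∀ B : 𝟙_ (Over (Spec (CommRingCat.of k))) ⟶ G,
        IsAffineOpen ((jC * (toUnit C' ≫ B)).left ⁻¹ᵁ U) := by
      intro B
      have := isIso_mul_right B
      haveI : IsIso (𝟙 G * (toUnit G ≫ B)).left :=
        inferInstanceAs (IsIso ((Over.forget _).map (𝟙 G * (toUnit G ≫ B))))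
      have e1 : jC * (toUnit C' ≫ B) = jC ≫ (𝟙 G * (toUnit G ≫ B)) := by
        rw [comp_mul, Category.comp_id, ← Category.assoc, comp_toUnit]
      rw [e1]
      show IsAffineOpen (Co.ι ⁻¹ᵁ ((𝟙 G * (toUnit G ≫ B)).left ⁻¹ᵁ U))
      let V := (𝟙 G * (toUnit G ≫ B)).left ⁻¹ᵁ U
      have hV : IsAffineOpen V := haff.preimage_of_isIso _
      have hVC : IsAffineOpen (V ⊓ Co) := by
        have := hV.basicOpen (res (le_top : V ≤ ⊤) (r C))
        rwa [show G.left.basicOpen (res (le_top : V ≤ ⊤) (r C)) = V ⊓ Co from Scheme.basicOpen_res _ _ _] at this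
      have heq : Co.ι ⁻¹ᵁ V = Co.ι ⁻¹ᵁ (V ⊓ Co) := Opens.ext (Set.ext fun x => ⟨fun h => ⟨h, x.2⟩, fun h => h.1⟩)
      rw [heq]
      exact hVC.preimage_of_isOpenImmersion Co.ι (by rw [Scheme.Opens.opensRange_ι]; exact inf_le_right)
    haveI hCsep : Co.toScheme.IsSeparated := ⟨by rw [← terminal.comp_from Co.ι]; infer_instance⟩
    haveI : C'.left.IsSeparated := hCsep
    exact (aff A).inf (aff A⁻¹)

end Groth.Agent.CohDer1.QP
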