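import Groth.Agent.CohDer1.QP.Closed
import Groth.Agent.FlatMorStrat.Noetherian
import Groth.Agent.S2491
import Mathlib.AlgebraicGeometry.Morphisms.UniversallyOpen

/-!
# Smooth group schemes of finite type over a field are quasi-projective
-/

set_option autoImplicit false
set_option backward.isDefEq.respectTransparency.types false

universe u

open CategoryTheory CategoryTheory.Limits MonoidalCategory CartesianMonoidalCategory AlgebraicGeometry MonObj
  TopologicalSpace
open Groth.Agent.PicLib Groth.Agent.CubeLib Groth.Agent.AmpleLib Groth.Agent.AbCubeLib Groth.Agent.Coherent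

namespace Groth.Agent.CohDer1.QP

variable {k : Type u} [Field k] (G : Over (Spec (CommRingCat.of k))) [GrpObj G] [Smooth G.hom] [QuasiCompact G.hom]

/-- A smooth group scheme of finite type over a field carries an ample module. -/
theorem exists_ample_of_smooth : ∃ L : G.left.Modules, CohB1.IsAmple L := by
  have hsep : IsSeparated G.hom := SGA3xLib.isSeparated_of_grpObj G
  haveI : G.left.IsSeparated := ⟨by rw [← terminal.comp_from G.hom]; infer_instance⟩
  haveI : IsLocallyNoetherian G.left := LocallyOfFiniteType.isLocallyNoetherian G.hom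
  haveI : CompactSpace G.left := QuasiCompact.compactSpace_of_compactSpace G.hom
  haveI : IsNoetherian G.left := {}
  obtain ⟨U, hU, -, hgen⟩ := FlatMorStrat.exists_affine_dense G.left
  have hdense : Dense (U : Set G.left) := fun z => by
    obtain ⟨y, hy, hyz⟩ := hgen z
    exact closure_mono (Set.singleton_subset_iff.2 hy) (specializes_iff_mem_closure.1 hyz)
  obtain ⟨I, hI, hsupp⟩ := exists_effCartier_compl (fun _ _ hV hW => hV.inf hW) hU hdense fun x _ => by
    haveI := VarietyLib.isRegularLocalRing_stalk_of_smooth k G.left G.hom x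
    haveI := CAlgH3.isDomain_of_isRegularLocalRing (G.left.presheaf.stalk x)
    exact ⟨inferInstance, CAlgH3.ufm_of_regular _⟩
  obtain ⟨L, ⟨e⟩⟩ := VarietyLib.exists_isInverseOf (isInvertible_idealMod I hI)
  have hL : PicF.IsInvertible L := PicM.isInvertible_of_tensor (isInvertible_idealMod I hI) (by
    intro y
    obtain ⟨W, hy, ⟨e'⟩⟩ := (AmpleLib.isInvertible_structureModule (X := G.left)) y
    exact ⟨W, hy, ⟨(Scheme.Modules.restrictFunctor W.ι).mapIso e ≪≫ e'⟩⟩)
  obtain ⟨s, hs⟩ := exists_section_of_effCartier I hI hL ⟨tensorComm _ _ ≪≫ e⟩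
  have hloc : glocus L s = U := Opens.ext (hs.trans (by rw [hsupp, compl_compl]))
  let K := AlgebraicClosure k
  let φ : Spec (CommRingCat.of K) ⟶ Spec (CommRingCat.of k) := Spec.map (CommRingCat.ofHom (algebraMap k K))
  let B : Over (Spec (CommRingCat.of K)) := (Over.pullback φ).obj G
  letI : GrpObj B := Functor.grpObjObj
  haveI : Smooth B.hom := inferInstanceAs (Smooth (pullback.snd G.hom φ))
  haveI : QuasiCompact B.hom := inferInstanceAs (QuasiCompact (pullback.snd G.hom φ))
  haveI : Subsingleton ↥(Spec (CommRingCat.of k)) := inferInstanceAs (Subsingleton (PrimeSpectrum k))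
  haveI : UniversallyOpen φ := inferInstance
  haveI : Flat φ := inferInstance
  let g : B.left ⟶ G.left := pullback.fst G.hom φ
  have hP : IsPullback g B.hom G.hom φ := IsPullback.of_hasPullback G.hom φ
  haveI : IsAffineHom g := MorphismProperty.of_isPullback (P := @IsAffineHom) hP.flip inferInstance
  haveI : UniversallyOpen g := MorphismProperty.of_isPullback (P := @UniversallyOpen) hP.flip inferInstance
  have h := glocus_pullSec g hL s
  refine ⟨L, Groth.Agent.S2491.result G.hom φ L hL
    (isAmple_of_dense_affine_glocus (G := B) (PicLoc.isInvertible_pullback g hL) (pullSec g s) ?_ ?_)⟩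
  · exact h ▸ (hloc ▸ hU : IsAffineOpen (glocus L s)).preimage g
  · exact h ▸ (hloc ▸ hdense : Dense (glocus L s : Set G.left)).preimage g.isOpenMap

end Groth.Agent.CohDer1.QP
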